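/-
Soft subgroups of p-groups (helper70).

Main results (namespace `Cfsg.Agent.Soft`):
* `IsSoft`: abelian, self-centralising, of index `p` in its normaliser
* `Good`: the overgroups form a chain with normaliser steps of index `p` and classes at most `i + 1`
* `good`: every soft subgroup is `Good`
* `le_class`: the matching lower bound on the nilpotency class
-/
import Cfsg.Agent.Lib.PGroup.Basic

set_option autoImplicit false
set_option linter.style.haveILetI false
open scoped commutatorElement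

universe u

namespace Cfsg.Agent.Soft

open Subgroup

variable {P : Type u} [Group P] [Finite P] {p : ℕ} [hp : Fact p.Prime]

theorem lt_normalizer_inf (hP : IsPGroup p P) {A K : Subgroup P} (h : A < K) :
    A < normalizer (A : Set P) ⊓ K := by
  haveI : Group.IsNilpotent K := (hP.to_subgroup K).isNilpotent
  have h1 : A.subgroupOf K < ⊤ :=
    lt_of_le_of_ne le_top fun e => h.not_ge (subgroupOf_eq_top.mp e)
  obtain ⟨⟨g, hgK⟩, hg, hgA⟩ := SetLike.exists_of_lt (normalizerCondition_of_isNilpotent _ h1)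
  have hcl : ∀ a ∈ A, g * a * g⁻¹ ∈ A := fun a ha => by
    have := (mem_normalizer_iff.mp hg ⟨a, h.le ha⟩).mp ha
    exact this
  have hgN : g ∈ normalizer (A : Set P) := by
    have hle : A ≤ A.comap (MulAut.conj g).toMonoidHom := fun a ha => hcl a ha
    have heq : A.map (MulAut.conj g).toMonoidHom = A :=
      eq_of_le_of_card_ge (map_le_iff_le_comap.mpr hle)
        (card_map_of_injective (MulAut.conj g).injective).ge
    refine mem_normalizer_iff.mpr fun a => ⟨hcl a, fun ha => ?_⟩
    have h2 : g * a * g⁻¹ ∈ A.map (MulAut.conj g).toMonoidHom := by rw [heq]; exact ha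
    obtain ⟨b, hb, e⟩ := h2
    exact ((MulAut.conj g).injective e) ▸ hb
  exact lt_of_le_of_ne (le_inf le_normalizer h.le) fun e => hgA (e.ge ⟨hgN, hgK⟩)

/-- A subgroup strictly above `A` inside one of order `p |A|` is that one. -/
theorem eq_of_card_step {A B C : Subgroup P} (hAB : A < B) (hBC : B ≤ C)
    (hc : Nat.card C = p * Nat.card A) : B = C := by
  obtain ⟨t, ht⟩ := card_dvd_of_le hAB.le
  have h1 : Nat.card B ∣ Nat.card C := card_dvd_of_le hBC
  have ht' : t ∣ p := by
    rw [ht, hc, mul_comm p] at h1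
    exact Nat.dvd_of_mul_dvd_mul_left Nat.card_pos h1
  refine eq_of_le_of_card_ge hBC ?_
  rcases (Nat.dvd_prime hp.out).mp ht' with h | h
  · rw [h, mul_one] at ht
    exact absurd (eq_of_le_of_card_ge hAB.le ht.le) hAB.ne
  · rw [ht, h, hc, mul_comm]

/-- Every subgroup strictly above `A` contains the normaliser step. -/
theorem normalizer_le_of_lt (hP : IsPGroup p P) {A K : Subgroup P}
    (hA : Nat.card (normalizer (A : Set P)) = p * Nat.card A) (h : A < K) :
    normalizer (A : Set P) ≤ K :=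
  (eq_of_card_step (lt_normalizer_inf hP h) inf_le_left hA).ge.trans inf_le_right

/-- Soft subgroup. -/
structure IsSoft (p : ℕ) (E : Subgroup P) : Prop where
  ab : ∀ a ∈ E, ∀ b ∈ E, a * b = b * a
  cent : centralizer (E : Set P) ≤ E
  step : Nat.card (normalizer (E : Set P)) = p * Nat.card E

/-- The conclusion. -/
structure Good (p : ℕ) (E : Subgroup P) : Prop where
  chain : ∀ K L : Subgroup P, E ≤ K → E ≤ L → K ≤ L ∨ L ≤ K
  step : ∀ K : Subgroup P, E ≤ K → K ≠ ⊤ → Nat.card (normalizer (K : Set P)) = p * Nat.card K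
  class_le : ∀ (i : ℕ) (K : Subgroup P), E ≤ K → K ≠ ⊤ → Nat.card K = p ^ i * Nat.card E →
    Group.nilpotencyClass K ≤ i + 1

theorem eq_of_card_eq {E : Subgroup P}
    (hchain : ∀ K L : Subgroup P, E ≤ K → E ≤ L → K ≤ L ∨ L ≤ K) {K L : Subgroup P}
    (hK : E ≤ K) (hL : E ≤ L) (h : Nat.card K = Nat.card L) : K = L := by
  rcases hchain K L hK hL with h' | h'
  · exact eq_of_le_of_card_ge h' h.ge
  · exact (eq_of_le_of_card_ge h' h.le).symm

theorem exists_level {E : Subgroup P}
    (hchain : ∀ K L : Subgroup P, E ≤ K → E ≤ L → K ≤ L ∨ L ≤ K)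
    (hstep : ∀ K : Subgroup P, E ≤ K → K ≠ ⊤ → Nat.card (normalizer (K : Set P)) = p * Nat.card K)
    {i : ℕ} {K : Subgroup P} (hEK : E ≤ K) (hcard : Nat.card K = p ^ i * Nat.card E) :
    ∀ j ≤ i, ∃ M : Subgroup P, E ≤ M ∧ M ≤ K ∧ Nat.card M = p ^ j * Nat.card E := by
  intro j
  induction j with
  | zero => exact fun _ => ⟨E, le_rfl, hEK, by simp⟩
  | succ j ih =>
    intro hj
    obtain ⟨M, hEM, hMK, hM⟩ := ih (by omega)
    have hlt : Nat.card M < Nat.card K := by
      rw [hM, hcard]
      exact Nat.mul_lt_mul_of_pos_right (Nat.pow_lt_pow_right hp.out.one_lt (by omega)) Nat.card_pos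
    have hMne : M ≠ ⊤ := fun e => by
      rw [e, card_top] at hlt
      exact absurd (card_le_card_group (G := P) (H := K)) (not_le.mpr hlt)
    have hc : Nat.card (normalizer (M : Set P)) = p ^ (j + 1) * Nat.card E := by
      rw [hstep M hEM hMne, hM, pow_succ]; ring
    refine ⟨_, hEM.trans le_normalizer, ?_, hc⟩
    rcases hchain _ K (hEM.trans le_normalizer) hEK with h | h
    · exact h
    · refine (eq_of_le_of_card_ge h ?_).ge
      rw [hc, hcard]
      exact Nat.mul_le_mul_right _ (Nat.pow_le_pow_right hp.out.pos hj)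

/-- The lower bound for the class. -/
theorem le_class (hP : IsPGroup p P) {E : Subgroup P} (hC : centralizer (E : Set P) ≤ E)
    (hchain : ∀ K L : Subgroup P, E ≤ K → E ≤ L → K ≤ L ∨ L ≤ K)
    (hstep : ∀ K : Subgroup P, E ≤ K → K ≠ ⊤ → Nat.card (normalizer (K : Set P)) = p * Nat.card K)
    {i : ℕ} {K : Subgroup P} (hEK : E ≤ K) (hcard : Nat.card K = p ^ i * Nat.card E)
    (hE : E ≠ ⊥) : i + 1 ≤ Group.nilpotencyClass K := by
  haveI : Group.IsNilpotent K := (hP.to_subgroup K).isNilpotent
  have key : ∀ j, j ≤ i → ∀ M : Subgroup P, E ≤ M → M ≤ K → Nat.card M = p ^ j * Nat.card E →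
      ∀ g : K, g ∈ Subgroup.upperCentralSeries K (j + 1) → (g : P) ∈ M := by
    intro j
    induction j with
    | zero =>
      intro _ M hEM _ hM g hg
      have hME : M = E := eq_of_card_eq hchain hEM le_rfl (by rw [hM]; simp)
      rw [hME]
      rw [Subgroup.upperCentralSeries_one] at hg
      exact hC (mem_centralizer_iff.mpr fun e he =>
        congrArg Subtype.val (mem_center_iff.mp hg ⟨e, hEK he⟩))
    | succ j ih =>
      intro hj M hEM hMK hM g hg
      obtain ⟨M', hEM', hM'M, hM'⟩ := exists_level hchain hstep hEM hM j (by omega)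
      have hM'ne : M' ≠ ⊤ := fun e => by
        have h1 := card_le_card_group (G := P) (H := M)
        rw [← card_top (G := P), ← e, hM, hM'] at h1
        exact absurd h1 (not_le.mpr (Nat.mul_lt_mul_of_pos_right
          (Nat.pow_lt_pow_right hp.out.one_lt (by omega)) Nat.card_pos))
      have hMN : M = normalizer (M' : Set P) := eq_of_card_eq hchain hEM (hEM'.trans le_normalizer)
        (by rw [hM, hstep M' hEM' hM'ne, hM', pow_succ]; ring)
      have hcl : ∀ m ∈ M', (g : P) * m * (g : P)⁻¹ ∈ M' := by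
        intro m hm
        have hmK : m ∈ K := hMK (hM'M hm)
        have h := ih (by omega) M' hEM' (hM'M.trans hMK) hM' _
          (Subgroup.mem_upperCentralSeries_succ_iff.mp hg ⟨m, hmK⟩)
        have := M'.mul_mem h hm
        simpa [commutatorElement_def] using this
      have heq : M'.map (MulAut.conj (g : P)).toMonoidHom = M' :=
        eq_of_le_of_card_ge (map_le_iff_le_comap.mpr fun m hm => hcl m hm)
          (card_map_of_injective (MulAut.conj (g : P)).injective).ge
      rw [hMN, mem_normalizer_iff]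
      refine fun m => ⟨hcl m, fun hm => ?_⟩
      have h2 : (g : P) * m * (g : P)⁻¹ ∈ M'.map (MulAut.conj (g : P)).toMonoidHom := by
        rw [heq]; exact hm
      obtain ⟨b, hb, e⟩ := h2
      exact ((MulAut.conj (g : P)).injective e) ▸ hb
  by_contra hlt
  push Not at hlt
  have htop : Subgroup.upperCentralSeries K (Group.nilpotencyClass K) = ⊤ := Subgroup.upperCentralSeries_nilpotencyClass
  rcases Nat.eq_zero_or_pos (Group.nilpotencyClass K) with h0 | h0
  · rw [h0, Subgroup.upperCentralSeries_zero] at htop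
    refine hE ((eq_bot_iff_forall E).mpr fun e he => ?_)
    have h1 : (⟨e, hEK he⟩ : K) ∈ (⊥ : Subgroup K) := htop ▸ mem_top _
    exact congrArg Subtype.val (mem_bot.mp h1)
  · obtain ⟨c, hc⟩ : ∃ c, Group.nilpotencyClass K = c + 1 := ⟨_, (Nat.sub_add_cancel h0).symm⟩
    rcases Nat.eq_zero_or_pos i with rfl | hi
    · omega
    obtain ⟨M, hEM, hMK, hM⟩ := exists_level hchain hstep hEK hcard (i - 1) (by omega)
    have hKM : K ≤ M := fun g hg => by
      refine key (i - 1) (by omega) M hEM hMK hM ⟨g, hg⟩ ?_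
      exact Subgroup.upperCentralSeries_mono K (show c + 1 ≤ i - 1 + 1 by omega)
        (hc ▸ htop.symm ▸ mem_top _)
    have h2 := card_le_of_le hKM
    rw [hcard, hM] at h2
    exact absurd h2 (not_le.mpr (Nat.mul_lt_mul_of_pos_right
      (Nat.pow_lt_pow_right hp.out.one_lt (by omega)) Nat.card_pos))

theorem card_eq_map_mul {Q : Type*} [Group Q] (π : P →* Q) {K : Subgroup P} (h : π.ker ≤ K) :
    Nat.card K = Nat.card (K.map π) * Nat.card π.ker := by
  rw [← relIndex_ker K π, ← relIndex_bot_left K, ← relIndex_bot_left π.ker,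
    mul_comm, relIndex_mul_relIndex _ _ _ bot_le h]

theorem map_ne_top {Q : Type*} [Group Q] (π : P →* Q) (hπ : Function.Surjective π) {K : Subgroup P}
    (h : π.ker ≤ K) (hK : K ≠ ⊤) : K.map π ≠ ⊤ := fun e => by
  have h1 := comap_map_eq_self (f := π) h
  rw [e, comap_top] at h1
  exact hK h1.symm

theorem card_normalizer_map {Q : Type*} [Group Q] (π : P →* Q) (hπ : Function.Surjective π)
    {K : Subgroup P} (h : π.ker ≤ K) :
    Nat.card (normalizer (K : Set P)) =
      Nat.card (normalizer ((K.map π : Subgroup Q) : Set Q)) * Nat.card π.ker := by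
  have e : normalizer (K : Set P) = (normalizer ((K.map π : Subgroup Q) : Set Q)).comap π := by
    rw [comap_normalizer_eq_of_surjective _ hπ, comap_map_eq_self h]
  rw [e, card_eq_map_mul π (K := (normalizer ((K.map π : Subgroup Q) : Set Q)).comap π)
    (by rw [← MonoidHom.comap_bot]; exact comap_mono bot_le),
    map_comap_eq_self_of_surjective hπ]

/-- An orbit of subgroups of index `p` above a common subgroup of index `p ^ 2`. -/
theorem card_le_succ_mul {W M K L : Subgroup P} (hWM : W ≤ M) (hMK : M ≤ K) (hKL : K ≤ L)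
    (hM : Nat.card M = p * Nat.card W) (hK : Nat.card K = p * Nat.card M)
    (hLW : ∀ l ∈ L, ∀ w ∈ W, l * w * l⁻¹ ∈ W) (hLK : ∀ l ∈ L, ∀ k ∈ K, l * k * l⁻¹ ∈ K)
    (hN : ∀ l ∈ L, (∀ m ∈ M, l * m * l⁻¹ ∈ M) → l ∈ K) :
    Nat.card L ≤ (p + 1) * Nat.card K := by
  classical
  let S : Subgroup L := K.subgroupOf L
  let F : (↥L ⧸ S) × {m : M // (m : P) ∉ W} → {k : K // (k : P) ∉ W} := fun x =>
    ⟨⟨(x.1.out : P) * (x.2.1 : P) * (x.1.out : P)⁻¹, hLK _ x.1.out.2 _ (hMK x.2.1.2)⟩, fun h => by
      have h1 := hLW _ (inv_mem x.1.out.2) _ h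
      refine x.2.2 ?_
      simpa [mul_assoc] using h1⟩
  have hinj : Function.Injective F := by
    rintro ⟨a, ⟨m, hm⟩⟩ ⟨b, ⟨n, hn⟩⟩ e
    have e' : (a.out : P) * m * (a.out : P)⁻¹ = (b.out : P) * n * (b.out : P)⁻¹ :=
      congrArg (fun x : {k : K // (k : P) ∉ W} => ((x.1 : K) : P)) e
    set l : P := (b.out : P)⁻¹ * a.out with hl
    have hlL : l ∈ L := mul_mem (inv_mem b.out.2) a.out.2
    have hlm : l * m * l⁻¹ = n := by
      calc l * m * l⁻¹ = (b.out : P)⁻¹ * ((a.out : P) * m * (a.out : P)⁻¹) * b.out := by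
            rw [hl]; group
        _ = (b.out : P)⁻¹ * ((b.out : P) * n * (b.out : P)⁻¹) * b.out := by rw [e']
        _ = n := by group
    have hlM : ∀ x ∈ M, l * x * l⁻¹ ∈ M := by
      have hle : W < M ⊓ M.comap (MulAut.conj l).toMonoidHom := by
        refine lt_of_le_of_ne (le_inf hWM fun w hw => hWM (hLW l hlL w hw)) fun e2 => hm ?_
        rw [e2]
        exact ⟨m.2, by show l * m * l⁻¹ ∈ M; rw [hlm]; exact n.2⟩
      have heq := eq_of_card_step hle inf_le_left hM
      exact fun x hx => (heq.ge hx).2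
    have hlK := hN l hlL hlM
    have hab : b = a := by
      rw [← b.out_eq, ← a.out_eq]
      exact QuotientGroup.eq.mpr hlK
    subst hab
    have hmn : m = n := Subtype.ext (mul_left_cancel (mul_right_cancel e'))
    subst hmn
    rfl
  have h := Nat.card_le_card_of_injective F hinj
  have hcompl : ∀ A : Subgroup P, W ≤ A → Nat.card {a : A // (a : P) ∉ W} + Nat.card W = Nat.card A := by
    intro A hA
    haveI := Fintype.ofFinite A
    have h1 : Nat.card {a : A // (a : P) ∈ W} = Nat.card W :=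
      Nat.card_congr { toFun := fun a => ⟨(a.1 : P), a.2⟩
                       invFun := fun w => ⟨⟨w, hA w.2⟩, w.2⟩
                       left_inv := fun a => rfl
                       right_inv := fun w => rfl }
    rw [← h1, ← Nat.card_sum]
    exact Nat.card_congr ((Equiv.sumComm _ _).trans (Equiv.sumCompl (fun a : A => (a : P) ∈ W)))
  rw [Nat.card_prod] at h
  have hL : Nat.card (↥L ⧸ S) * Nat.card K = Nat.card L := by
    rw [← Nat.card_congr (subgroupOfEquivOfLe hKL).toEquiv]
    exact (card_eq_card_quotient_mul_card_subgroup S).symm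
  have h2 := hcompl M hWM
  have h3 := hcompl K (hWM.trans hMK)
  rw [hM] at h2
  rw [hK, hM] at h3
  obtain ⟨r, hr⟩ : ∃ r, p = r + 1 := ⟨p - 1, by have := hp.out.pos; omega⟩
  rw [← hL]
  refine Nat.mul_le_mul_right _ ?_
  have hW : 0 < Nat.card W := Nat.card_pos
  have hMW : Nat.card {a : M // (a : P) ∉ W} = r * Nat.card W := by
    rw [hr, add_mul, one_mul] at h2; omega
  have hKW : Nat.card {a : K // (a : P) ∉ W} = (r * r + 2 * r) * Nat.card W := by
    rw [hr, show (r + 1) * ((r + 1) * Nat.card W) = (r * r + 2 * r) * Nat.card W + Nat.card W by ring] at h3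
    omega
  rw [hMW, hKW, ← mul_assoc] at h
  have h4 := Nat.le_of_mul_le_mul_right h hW
  have hr0 : 0 < r := by have := hp.out.two_le; omega
  refine Nat.le_of_mul_le_mul_right (h4.trans (le_of_eq ?_)) hr0
  rw [hr]; ring

theorem class_le_one {K : Subgroup P} (h : ∀ a ∈ K, ∀ b ∈ K, a * b = b * a) :
    Group.nilpotencyClass K ≤ 1 := by
  letI : CommGroup K :=
    { (inferInstance : Group K) with mul_comm := fun a b => Subtype.ext (h a a.2 b b.2) }
  exact CommGroup.nilpotencyClass_le_one (G := K)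

/-- The general induction. -/
theorem good : ∀ (n : ℕ) (P : Type u) [Group P] [Finite P], IsPGroup p P → Nat.card P = n →
    ∀ E : Subgroup P, IsSoft p E → Good p E := by
  intro n
  induction n using Nat.strong_induction_on with
  | _ n ih =>
  intro P _ _ hP hPn E hE
  set N₁ := normalizer (E : Set P) with hN₁
  have hEN₁ : E < N₁ := lt_of_le_of_ne le_normalizer fun e => by
    have h := hE.step
    rw [← hN₁, ← e] at h
    have h2 := hp.out.two_le
    have h3 : 0 < Nat.card E := Nat.card_pos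
    nlinarith
  have habove : ∀ K, E ≤ K → K = E ∨ N₁ ≤ K := fun K hK =>
    (eq_or_lt_of_le hK).imp Eq.symm (normalizer_le_of_lt hP hE.step)
  have hbase : ∀ i, ∀ K : Subgroup P, E ≤ K → Nat.card K = p ^ i * Nat.card E → (i = 0 ↔ K = E) := by
    intro i K hEK hK
    refine ⟨fun h => (eq_of_le_of_card_ge hEK (by rw [hK, h, pow_zero, one_mul])).symm, fun h => ?_⟩
    rw [h] at hK
    by_contra hi
    have := Nat.one_lt_pow hi hp.out.one_lt
    have h3 : 0 < Nat.card E := Nat.card_pos
    nlinarith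
  have hclass0 : ∀ i K, E ≤ K → i = 0 → Nat.card K = p ^ i * Nat.card E →
      Group.nilpotencyClass K ≤ i + 1 := by
    intro i K hEK hi hK
    rw [(hbase i K hEK hK).mp hi, hi]
    exact class_le_one hE.ab
  by_cases htop : N₁ = ⊤
  · -- `E` is maximal
    have hKs : ∀ K, E ≤ K → K = E ∨ K = ⊤ := fun K hK =>
      (habove K hK).imp_right fun h => eq_top_iff.mpr (htop ▸ h)
    refine ⟨fun K L hK hL => ?_, fun K hK hK' => ?_, fun i K hEK hK' hK => ?_⟩
    · rcases hKs K hK with rfl | rfl
      · exact Or.inl hL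
      · exact Or.inr le_top
    · rw [(hKs K hK).resolve_right hK']
      exact hE.step
    · exact hclass0 i K hEK ((hbase i K hEK hK).mpr ((hKs K hEK).resolve_right hK')) hK
  -- the first normaliser
  set N₂ := normalizer (N₁ : Set P) with hN₂
  obtain ⟨y, hy, hyN₁⟩ : ∃ y ∈ N₂, y ∉ N₁ := by
    have h := lt_normalizer_inf hP (lt_top_iff_ne_top.mpr htop)
    obtain ⟨y, hy, hy'⟩ := SetLike.exists_of_lt h
    exact ⟨y, hy.1, hy'⟩
  set E' := E.map (MulAut.conj y).toMonoidHom with hE'
  have hE'card : Nat.card E' = Nat.card E := card_map_of_injective (MulAut.conj y).injective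
  have hE'N₁ : E' ≤ N₁ := by
    rintro _ ⟨e, he, rfl⟩
    exact (mem_normalizer_iff.mp hy e).mp (hEN₁.le he)
  have hE'ne : ¬ E' ≤ E := fun h => hyN₁ (by
    have heq : E' = E := eq_of_le_of_card_ge h hE'card.ge
    refine mem_normalizer_iff.mpr fun a => ⟨fun ha => h ⟨a, ha, rfl⟩, fun ha => ?_⟩
    have h2 : y * a * y⁻¹ ∈ E' := by rw [heq]; exact ha
    obtain ⟨b, hb, e⟩ := h2
    exact ((MulAut.conj y).injective e) ▸ hb)
  have hsup : E ⊔ E' = N₁ := eq_of_card_step
    (left_lt_sup.mpr hE'ne) (sup_le hEN₁.le hE'N₁) hE.step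
  obtain ⟨x, hxE', hxE⟩ := SetLike.not_le_iff_exists.mp hE'ne
  have hxN₁ : x ∈ N₁ := hE'N₁ hxE'
  have hsupx : E ⊔ zpowers x = N₁ := eq_of_card_step
    (left_lt_sup.mpr fun h => hxE (h (mem_zpowers x))) (sup_le hEN₁.le (zpowers_le.mpr hxN₁)) hE.step
  have hE'ab : ∀ a ∈ E', ∀ b ∈ E', a * b = b * a := by
    rintro _ ⟨a, ha, rfl⟩ _ ⟨b, hb, rfl⟩
    rw [← map_mul, ← map_mul, hE.ab a ha b hb]
  set W := N₁ ⊓ centralizer (N₁ : Set P) with hW
  have hWE : W ≤ E := fun w hw => hE.cent (centralizer_le hEN₁.le hw.2)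
  have hZW : E ⊓ E' ≤ W := fun w hw => ⟨hEN₁.le hw.1, by
    refine mem_centralizer_iff.mpr fun g hg => ?_
    have hle : N₁ ≤ centralizer ({w} : Set P) := hsup ▸ sup_le
      (fun a ha => mem_centralizer_singleton_iff.mpr (hE.ab a ha w hw.1))
      (fun a ha => mem_centralizer_singleton_iff.mpr (hE'ab a ha w hw.2))
    exact mem_centralizer_singleton_iff.mp (hle hg)⟩
  have hE'n : ∀ g ∈ N₁, ∀ a ∈ E', g * a * g⁻¹ ∈ E' := by
    rintro g hg _ ⟨a, ha, rfl⟩
    have hg' : y⁻¹ * g * y ∈ N₁ := by
      have := (mem_normalizer_iff.mp hy (y⁻¹ * g * y)).mpr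
      exact this (by simpa [mul_assoc] using hg)
    refine ⟨(y⁻¹ * g * y) * a * (y⁻¹ * g * y)⁻¹, (mem_normalizer_iff.mp hg' a).mp ha, ?_⟩
    simp only [MulEquiv.toMonoidHom_eq_coe, MonoidHom.coe_coe, MulAut.conj_apply]
    group
  have hxe : ∀ e ∈ E, ⁅x, e⁆ ∈ E ⊓ E' := by
    intro e he
    rw [commutatorElement_def]
    refine ⟨E.mul_mem ((mem_normalizer_iff.mp hxN₁ e).mp he) (E.inv_mem he), ?_⟩
    rw [show x * e * x⁻¹ * e⁻¹ = x * (e * x⁻¹ * e⁻¹) by group]
    exact E'.mul_mem hxE' (hE'n e (hEN₁.le he) _ (E'.inv_mem hxE'))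
  have hcen : ∀ w ∈ W, ∀ g ∈ N₁, g * w = w * g := fun w hw g hg => mem_centralizer_iff.mp hw.2 g hg
  let f : ↥E →* P := MonoidHom.mk' (fun e => ⁅x, (e : P)⁆) (fun a b => by
    show ⁅x, (a : P) * b⁆ = ⁅x, (a : P)⁆ * ⁅x, (b : P)⁆
    rw [commutatorElement_mul_right_eq_mul_conj, mul_assoc ⁅x, (a : P)⁆ (a : P),
      hcen _ (hZW (hxe b b.2)) a (hEN₁.le a.2), ← mul_assoc, mul_inv_cancel_right])
  set C := f.range with hC
  have hCZ : C ≤ E ⊓ E' := by rintro _ ⟨e, rfl⟩; exact hxe e e.2
  have hCne : C ≠ ⊥ := fun h => hxE (hE.cent (mem_centralizer_iff.mpr fun e he => by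
    have h1 : f ⟨e, he⟩ ∈ C := ⟨_, rfl⟩
    rw [h, mem_bot] at h1
    exact (commutatorElement_eq_one_iff_mul_comm.mp h1).symm))
  have hWne : W ≠ E := fun h => hxE (hE.cent (mem_centralizer_iff.mpr fun e he =>
    (hcen e (h.symm ▸ he) x hxN₁).symm))
  have hindex : (E ⊓ E').relIndex E ∣ p := by
    have h2 : E'.relIndex N₁ * Nat.card E = p * Nat.card E := by
      rw [← hE.step, ← hN₁, ← hE'card, ← relIndex_bot_left, ← relIndex_bot_left, mul_comm,
        relIndex_mul_relIndex _ _ _ bot_le hE'N₁]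
    have h3 : (E ⊓ E').relIndex E ≤ p := by
      rw [inf_relIndex_left, ← Nat.eq_of_mul_eq_mul_right Nat.card_pos h2]
      exact relIndex_le_of_le_right hEN₁.le index_ne_zero_of_finite
    obtain ⟨a, ha⟩ := IsPGroup.iff_card.mp (hP.to_subgroup E)
    have h4 : (E ⊓ E').relIndex E ∣ p ^ a := by
      rw [← ha, ← relIndex_bot_left E]
      exact Dvd.intro_left _ (relIndex_mul_relIndex _ _ _ bot_le inf_le_left)
    obtain ⟨j, -, hj⟩ := (Nat.dvd_prime_pow hp.out).mp h4
    rw [hj] at h3 ⊢
    rcases Nat.lt_or_ge j 2 with h | h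
    · interval_cases j <;> simp
    · have := Nat.pow_le_pow_right hp.out.pos h
      nlinarith [hp.out.two_le]
  have hWcard : Nat.card E = p * Nat.card W := by
    have h1 : (E ⊓ E').relIndex W * W.relIndex E = (E ⊓ E').relIndex E :=
      relIndex_mul_relIndex _ _ _ hZW hWE
    have h2 : W.relIndex E ∣ p := (Dvd.intro_left _ h1).trans hindex
    rcases (Nat.dvd_prime hp.out).mp h2 with h | h
    · exact absurd (le_antisymm hWE (relIndex_eq_one.mp h)) hWne
    · rw [← h, ← relIndex_bot_left W, ← relIndex_bot_left E, mul_comm,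
        relIndex_mul_relIndex _ _ _ bot_le hWE]
  have hCcard : Nat.card C = p := by
    have h1 : Nat.card C ∣ p := by
      have hker : (E ⊓ E').subgroupOf E ≤ f.ker := fun e he => by
        show ⁅x, (e : P)⁆ = 1
        exact commutatorElement_eq_one_iff_mul_comm.mpr
          (hE'ab x hxE' _ (mem_subgroupOf.mp he).2)
      rw [hC, ← index_ker]
      exact (index_dvd_of_le hker).trans hindex
    exact ((Nat.dvd_prime hp.out).mp h1).resolve_left fun h => hCne (card_eq_one.mp h)
  have hCE : C ≤ E := hCZ.trans inf_le_left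
  have hCW : C ≤ W := hCZ.trans hZW
  -- all commutators of `N₁` lie in `C`
  have hcomm : ∀ g ∈ N₁, ∀ h ∈ N₁, ⁅g, h⁆ ∈ C := by
    let T : P → Subgroup P := fun h =>
      { carrier := {g | g ∈ N₁ ∧ ⁅g, h⁆ ∈ C}
        one_mem' := ⟨one_mem _, by simp⟩
        mul_mem' := fun {a b} ha hb => ⟨mul_mem ha.1 hb.1, by
          rw [commutatorElement_mul_left_eq_conj_mul,
            hcen _ (hCW hb.2) a ha.1, mul_inv_cancel_right]
          exact mul_mem hb.2 ha.2⟩
        inv_mem' := fun {a} ha => ⟨inv_mem ha.1, by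
          rw [commutatorElement_inv_left, ← commutatorElement_inv a h,
            show a⁻¹ * ⁅a, h⁆⁻¹ * a = ⁅a, h⁆⁻¹ by
              rw [hcen _ (inv_mem (hCW ha.2)) a⁻¹ (inv_mem ha.1), inv_mul_cancel_right]]
          exact inv_mem ha.2⟩ }
    have hxeC : ∀ e ∈ E, ⁅x, e⁆ ∈ C := fun e he => ⟨⟨e, he⟩, rfl⟩
    have hswap : ∀ a b : P, ⁅a, b⁆ ∈ C → ⁅b, a⁆ ∈ C := fun a b h => by
      rw [← commutatorElement_inv]; exact inv_mem h
    have hgen : ∀ h : P, (∀ e ∈ E, ⁅e, h⁆ ∈ C) → ⁅x, h⁆ ∈ C → N₁ ≤ T h := fun h h1 h2 =>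
      hsupx ▸ sup_le (fun e he => ⟨hEN₁.le he, h1 e he⟩) (zpowers_le.mpr ⟨hxN₁, h2⟩)
    have hbaseT : ∀ h, h ∈ E ∨ h = x → N₁ ≤ T h := by
      rintro h (hh | rfl)
      · exact hgen h (fun e he => by
          rw [commutatorElement_eq_one_iff_mul_comm.mpr (hE.ab e he h hh)]; exact one_mem _)
          (hxeC h hh)
      · exact hgen _ (fun e he => hswap _ _ (hxeC e he)) (by simp)
    intro g hg h hh
    exact (hgen h (fun e he => hswap _ _ (hbaseT e (Or.inl he) hh).2)
      (hswap _ _ (hbaseT x (Or.inr rfl) hh).2) hg).2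
  have hCN₂ : ∀ g ∈ N₂, ∀ c ∈ C, g * c * g⁻¹ ∈ C := by
    rintro g hg _ ⟨e, rfl⟩
    show g * ⁅x, (e : P)⁆ * g⁻¹ ∈ C
    rw [show g * ⁅x, (e : P)⁆ * g⁻¹ = ⁅g * x * g⁻¹, g * e * g⁻¹⁆ by
      simp only [commutatorElement_def]; group]
    exact hcomm _ ((mem_normalizer_iff.mp hg x).mp hxN₁) _
      ((mem_normalizer_iff.mp hg _).mp (hEN₁.le e.2))
  have hN₂card : Nat.card N₂ = p * Nat.card N₁ := by
    have hWn : ∀ l ∈ N₂, ∀ w ∈ W, l * w * l⁻¹ ∈ W := fun l hl w hw =>
      ⟨(mem_normalizer_iff.mp hl w).mp hw.1, mem_centralizer_iff.mpr fun g hg => by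
        have h1 : l⁻¹ * g * l ∈ N₁ := (mem_normalizer_iff.mp hl _).mpr (by simpa [mul_assoc] using hg)
        calc g * (l * w * l⁻¹) = l * ((l⁻¹ * g * l) * w) * l⁻¹ := by group
          _ = l * (w * (l⁻¹ * g * l)) * l⁻¹ := by rw [hcen w hw _ h1]
          _ = _ := by group⟩
    have hle := card_le_succ_mul (K := N₁) (L := N₂) hWE hEN₁.le le_normalizer hWcard hE.step hWn
      (fun l hl k hk => (mem_normalizer_iff.mp hl k).mp hk)
      (fun l _ hl => mem_normalizer_iff.mpr fun a => ⟨hl a, fun ha => by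
        have heq : E.map (MulAut.conj l).toMonoidHom = E :=
          eq_of_le_of_card_ge (map_le_iff_le_comap.mpr fun m hm => hl m hm)
            (card_map_of_injective (MulAut.conj l).injective).ge
        have h2 : l * a * l⁻¹ ∈ E.map (MulAut.conj l).toMonoidHom := by rw [heq]; exact ha
        obtain ⟨b, hb, e⟩ := h2
        exact ((MulAut.conj l).injective e) ▸ hb⟩)
    obtain ⟨a, ha⟩ := IsPGroup.iff_card.mp (hP.to_subgroup N₂)
    obtain ⟨b, hb⟩ := IsPGroup.iff_card.mp (hP.to_subgroup N₁)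
    have hlt : Nat.card N₁ < Nat.card N₂ := by
      refine lt_of_le_of_ne (card_le_of_le le_normalizer) fun e => hyN₁ ?_
      exact (eq_of_le_of_card_ge le_normalizer e.ge).ge hy
    rw [ha, hb] at hlt hle ⊢
    have hab : b < a := (Nat.pow_lt_pow_iff_right hp.out.one_lt).mp hlt
    have hab2 : a < b + 2 := by
      refine (Nat.pow_lt_pow_iff_right hp.out.one_lt).mp (hle.trans_lt ?_)
      rw [pow_add, mul_comm (p ^ b), pow_two]
      refine Nat.mul_lt_mul_of_pos_right ?_ (pow_pos hp.out.pos b)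
      nlinarith [hp.out.two_le]
    rw [show a = b + 1 by omega, pow_succ']
  by_cases hCc : C ≤ center P
  · -- first case: the commutator subgroup of `N₁` is central
    haveI hCn : C.Normal := ⟨fun c hc g => by
      rw [mem_center_iff.mp (hCc hc) g, mul_inv_cancel_right]; exact hc⟩
    let π := QuotientGroup.mk' C
    have hπs : Function.Surjective π := QuotientGroup.mk'_surjective C
    have hker : π.ker = C := QuotientGroup.ker_mk' C
    have hkN₁ : π.ker ≤ N₁ := hker.le.trans (hCE.trans hEN₁.le)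
    have hC1 : ∀ a b : P, π a = π b ↔ a⁻¹ * b ∈ C := fun a b => QuotientGroup.eq
    have hsoft : IsSoft p (N₁.map π) := by
      refine ⟨?_, ?_, ?_⟩
      · rintro _ ⟨a, ha, rfl⟩ _ ⟨b, hb, rfl⟩
        rw [← map_mul, ← map_mul, hC1, show (a * b)⁻¹ * (b * a) = ⁅b⁻¹, a⁻¹⁆ by
          simp only [commutatorElement_def]; group]
        exact hcomm _ (inv_mem hb) _ (inv_mem ha)
      · intro q hq
        obtain ⟨g, rfl⟩ := hπs q
        refine ⟨g, ?_, rfl⟩
        have hcl : ∀ e ∈ E, g * e * g⁻¹ ∈ E := fun e he => by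
          have h1 := mem_centralizer_iff.mp hq (π e) ⟨e, hEN₁.le he, rfl⟩
          rw [← map_mul, ← map_mul, hC1] at h1
          have h2 : g * ((e * g)⁻¹ * (g * e)) * g⁻¹ ∈ C := hCn.conj_mem _ h1 g
          rw [show g * e * g⁻¹ = e * (e⁻¹ * (g * e * g⁻¹)) by group]
          refine mul_mem he (hCE ?_)
          convert h2 using 1
          group
        have heq : E.map (MulAut.conj g).toMonoidHom = E :=
          eq_of_le_of_card_ge (map_le_iff_le_comap.mpr fun m hm => hcl m hm)
            (card_map_of_injective (MulAut.conj g).injective).ge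
        refine mem_normalizer_iff.mpr fun a => ⟨hcl a, fun ha => ?_⟩
        have h2 : g * a * g⁻¹ ∈ E.map (MulAut.conj g).toMonoidHom := by rw [heq]; exact ha
        obtain ⟨b, hb, e⟩ := h2
        exact ((MulAut.conj g).injective e) ▸ hb
      · have h1 := card_normalizer_map π hπs hkN₁
        rw [← hN₂, hN₂card, card_eq_map_mul π hkN₁, ← mul_assoc] at h1
        exact (Nat.eq_of_mul_eq_mul_right Nat.card_pos h1).symm
    have hlt : Nat.card (P ⧸ C) < n := by
      rw [← hPn, card_eq_card_quotient_mul_card_subgroup C, hCcard]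
      exact lt_mul_of_one_lt_right Nat.card_pos hp.out.one_lt
    obtain ⟨qchain, qstep, qclass⟩ := ih _ hlt (P ⧸ C) (hP.to_quotient C) rfl _ hsoft
    refine ⟨fun K L hK hL => ?_, fun K hK hK' => ?_, fun i K hEK hK' hK => ?_⟩
    · rcases habove K hK with rfl | hK1
      · exact Or.inl hL
      rcases habove L hL with rfl | hL1
      · exact Or.inr hK
      rcases qchain _ _ (map_mono (f := π) hK1) (map_mono (f := π) hL1) with h | h
      · left
        rw [← comap_map_eq_self (hkN₁.trans hK1), ← comap_map_eq_self (hkN₁.trans hL1)]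
        exact comap_mono h
      · right
        rw [← comap_map_eq_self (hkN₁.trans hK1), ← comap_map_eq_self (hkN₁.trans hL1)]
        exact comap_mono h
    · rcases habove K hK with rfl | hK1
      · exact hE.step
      rw [card_normalizer_map π hπs (hkN₁.trans hK1),
        qstep _ (map_mono hK1) (map_ne_top π hπs (hkN₁.trans hK1) hK'),
        card_eq_map_mul π (hkN₁.trans hK1), mul_assoc]
    · rcases habove K hEK with hKE | hK1
      · exact hclass0 i K hEK ((hbase i K hEK hK).mpr hKE) hK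
      obtain ⟨j, rfl⟩ : ∃ j, i = j + 1 := ⟨i - 1, by
        have : i ≠ 0 := fun h => hEN₁.not_ge ((hbase i K hEK hK).mp h ▸ hK1)
        omega⟩
      have hkK := hkN₁.trans hK1
      have hcardq : Nat.card (K.map π) = p ^ j * Nat.card (N₁.map π) := by
        have h1 := card_eq_map_mul π hkK
        rw [hK, pow_succ, mul_assoc, ← hE.step, ← hN₁, card_eq_map_mul π hkN₁, ← mul_assoc] at h1
        exact (Nat.eq_of_mul_eq_mul_right Nat.card_pos h1).symm
      have hq := qclass j _ (map_mono hK1) (map_ne_top π hπs hkK hK') hcardq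
      haveI : Group.IsNilpotent (K.map π) := ((hP.to_quotient C).to_subgroup _).isNilpotent
      have h2 := Group.nilpotencyClass_le_of_ker_le_center (π.subgroupMap K) (fun k hk => by
        have h3 : (k : P) ∈ C := by
          rw [← hker]
          exact congrArg Subtype.val (MonoidHom.mem_ker.mp hk)
        exact mem_center_iff.mpr fun m => Subtype.ext (mem_center_iff.mp (hCc h3) m))
      omega
  · -- second case: a central subgroup of order `p` meeting that commutator subgroup trivially
    have hPne : (⊤ : Subgroup P) ≠ ⊥ := fun h => hCne (le_bot_iff.mp (h ▸ le_top))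
    obtain ⟨z, -, hzc, hzo⟩ := PGroup.exists_central_order_p hP hPne
    set Z := zpowers z with hZ
    have hZc : Z ≤ center P := zpowers_le.mpr hzc
    haveI hZn : Z.Normal := ⟨fun c hc g => by
      rw [mem_center_iff.mp (hZc hc) g, mul_inv_cancel_right]; exact hc⟩
    have hZcard : Nat.card Z = p := by rw [hZ, Nat.card_zpowers, hzo]
    have hZE : Z ≤ E := fun c hc => hE.cent (mem_centralizer_iff.mpr fun e _ =>
      mem_center_iff.mp (hZc hc) e)
    have hCZb : C ⊓ Z = ⊥ := by
      by_contra h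
      haveI : Fact (Nat.card C).Prime := ⟨hCcard.symm ▸ hp.out⟩
      rcases ((C ⊓ Z).subgroupOf C).eq_bot_or_eq_top_of_prime_card with h1 | h1
      · rw [subgroupOf_eq_bot, disjoint_iff, inf_eq_left.mpr inf_le_left] at h1
        exact h h1
      · exact hCc ((subgroupOf_eq_top.mp h1).trans (inf_le_right.trans hZc))
    let π := QuotientGroup.mk' Z
    have hπs : Function.Surjective π := QuotientGroup.mk'_surjective Z
    have hker : π.ker = Z := QuotientGroup.ker_mk' Z
    have hkE : π.ker ≤ E := hker.le.trans hZE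
    -- an element whose commutators with `E` lie in `Z` belongs to `E`
    have hlift : ∀ g : P, (∀ e ∈ E, ⁅g, e⁆ ∈ Z) → g ∈ E := by
      intro g hg
      have hcl : ∀ e ∈ E, g * e * g⁻¹ ∈ E := fun e he => by
        have := E.mul_mem (hZE (hg e he)) he
        simpa [commutatorElement_def] using this
      have heq : E.map (MulAut.conj g).toMonoidHom = E :=
        eq_of_le_of_card_ge (map_le_iff_le_comap.mpr fun m hm => hcl m hm)
          (card_map_of_injective (MulAut.conj g).injective).ge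
      have hgN : g ∈ N₁ := mem_normalizer_iff.mpr fun a => ⟨hcl a, fun ha => by
        have h2 : g * a * g⁻¹ ∈ E.map (MulAut.conj g).toMonoidHom := by rw [heq]; exact ha
        obtain ⟨b, hb, e⟩ := h2
        exact ((MulAut.conj g).injective e) ▸ hb⟩
      refine hE.cent (mem_centralizer_iff.mpr fun e he => ?_)
      have h1 : ⁅g, e⁆ ∈ C ⊓ Z := ⟨hcomm g hgN e (hEN₁.le he), hg e he⟩
      rw [hCZb, mem_bot] at h1
      exact (commutatorElement_eq_one_iff_mul_comm.mp h1).symm
    have hπcomm : ∀ g k : P, Commute (π g) (π k) ↔ ⁅g, k⁆ ∈ Z := fun g k => by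
      constructor
      · intro h
        refine (QuotientGroup.eq_one_iff _).mp (show π ⁅g, k⁆ = 1 from ?_)
        rw [map_commutatorElement]
        exact commutatorElement_eq_one_iff_mul_comm.mpr h.eq
      · intro h
        have h1 : π ⁅g, k⁆ = 1 := (QuotientGroup.eq_one_iff _).mpr h
        rw [map_commutatorElement] at h1
        exact commutatorElement_eq_one_iff_mul_comm.mp h1
    have hsoft : IsSoft p (E.map π) := by
      refine ⟨?_, ?_, ?_⟩
      · rintro _ ⟨a, ha, rfl⟩ _ ⟨b, hb, rfl⟩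
        rw [← map_mul, ← map_mul, hE.ab a ha b hb]
      · intro q hq
        obtain ⟨g, rfl⟩ := hπs q
        refine ⟨g, hlift g fun e he => (hπcomm g e).mp ?_, rfl⟩
        exact (mem_centralizer_iff.mp hq (π e) ⟨e, he, rfl⟩).symm
      · have h1 := card_normalizer_map π hπs hkE
        rw [hE.step, card_eq_map_mul π hkE, ← mul_assoc] at h1
        exact (Nat.eq_of_mul_eq_mul_right Nat.card_pos h1).symm
    have hlt : Nat.card (P ⧸ Z) < n := by
      rw [← hPn, card_eq_card_quotient_mul_card_subgroup Z, hZcard]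
      exact lt_mul_of_one_lt_right Nat.card_pos hp.out.one_lt
    obtain ⟨qchain, qstep, qclass⟩ := ih _ hlt (P ⧸ Z) (hP.to_quotient Z) rfl _ hsoft
    have hchain : ∀ K L : Subgroup P, E ≤ K → E ≤ L → K ≤ L ∨ L ≤ K := fun K L hK hL => by
      rcases qchain _ _ (map_mono (f := π) hK) (map_mono (f := π) hL) with h | h
      · left
        rw [← comap_map_eq_self (hkE.trans hK), ← comap_map_eq_self (hkE.trans hL)]
        exact comap_mono h
      · right
        rw [← comap_map_eq_self (hkE.trans hK), ← comap_map_eq_self (hkE.trans hL)]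
        exact comap_mono h
    have hstep : ∀ K : Subgroup P, E ≤ K → K ≠ ⊤ →
        Nat.card (normalizer (K : Set P)) = p * Nat.card K := fun K hK hK' => by
      rw [card_normalizer_map π hπs (hkE.trans hK),
        qstep _ (map_mono hK) (map_ne_top π hπs (hkE.trans hK) hK'),
        card_eq_map_mul π (hkE.trans hK), mul_assoc]
    refine ⟨hchain, hstep, fun i K hEK hK' hK => ?_⟩
    rcases Nat.eq_zero_or_pos i with hi | hi
    · exact hclass0 i K hEK hi hK
    have hkK := hkE.trans hEK
    have hcardq : Nat.card (K.map π) = p ^ i * Nat.card (E.map π) := by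
      have h1 := card_eq_map_mul π hkK
      rw [hK, card_eq_map_mul π hkE, ← mul_assoc] at h1
      exact (Nat.eq_of_mul_eq_mul_right Nat.card_pos h1).symm
    have hq := qclass i _ (map_mono hEK) (map_ne_top π hπs hkK hK') hcardq
    -- the level below `K`
    obtain ⟨M, hEM, hMK, hM⟩ := exists_level hchain hstep hEK hK (i - 1) (by omega)
    have hMK' : Nat.card K = p * Nat.card M := by
      rw [hK, hM, ← mul_assoc, ← pow_succ', show i - 1 + 1 = i by omega]
    have hMne : M ≠ ⊤ := fun e => hK' (eq_top_iff.mpr (e ▸ hMK))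
    have hKN : K = normalizer (M : Set P) :=
      eq_of_card_eq hchain hEK (hEM.trans le_normalizer) (by rw [hMK', hstep M hEM hMne])
    obtain ⟨l, hl, hlK⟩ : ∃ l ∈ normalizer (K : Set P), l ∉ K := by
      obtain ⟨l, hl, hl'⟩ := SetLike.exists_of_lt (lt_normalizer_inf hP (lt_top_iff_ne_top.mpr hK'))
      exact ⟨l, hl.1, hl'⟩
    set E₂ := E.map (MulAut.conj l).toMonoidHom with hE₂
    have hE₂K : E₂ ≤ K := by
      rintro _ ⟨e, he, rfl⟩
      exact (mem_normalizer_iff.mp hl e).mp (hEK he)
    have hgenK : E ⊔ E₂ = K := by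
      by_contra hne
      have hltK : E ⊔ E₂ < K := lt_of_le_of_ne (sup_le hEK hE₂K) hne
      have hleM : E₂ ≤ M := by
        rcases hchain (E ⊔ E₂) M le_sup_left hEM with h | h
        · exact le_sup_right.trans h
        · rcases eq_or_lt_of_le h with h' | h'
          · exact h' ▸ le_sup_right
          · exact absurd (eq_of_card_step h' hltK.le hMK') hltK.ne
      have hM₂ : E ≤ M.map (MulAut.conj l⁻¹).toMonoidHom := fun e he =>
        ⟨l * e * l⁻¹, hleM ⟨e, he, rfl⟩, by simp [MulAut.conj_apply, mul_assoc]⟩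
      have heq : M.map (MulAut.conj l⁻¹).toMonoidHom = M :=
        eq_of_card_eq hchain hM₂ hEM (card_map_of_injective (MulAut.conj l⁻¹).injective)
      apply hlK
      rw [hKN, ← inv_mem_iff, mem_normalizer_iff]
      refine fun a => ⟨fun ha => ?_, fun ha => ?_⟩
      · rw [← heq]; exact ⟨a, ha, rfl⟩
      · rw [← heq] at ha
        obtain ⟨b, hb, e⟩ := ha
        exact ((MulAut.conj l⁻¹).injective e) ▸ hb
    haveI : Group.IsNilpotent K := (hP.to_subgroup K).isNilpotent
    haveI : Group.IsNilpotent (K.map π) := ((hP.to_quotient Z).to_subgroup _).isNilpotent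
    let πK : ↥K →* ↥(K.map π) := π.subgroupMap K
    have hπKs : Function.Surjective πK := π.subgroupMap_surjective K
    have hcenter : ∀ g : K, πK g ∈ center (K.map π) → g ∈ center K := by
      intro g hg
      have hgZ : ∀ k ∈ K, ⁅(g : P), k⁆ ∈ Z := fun k hk => by
        refine (hπcomm g k).mp ?_
        exact (congrArg Subtype.val (mem_center_iff.mp hg (πK ⟨k, hk⟩))).symm
      have h1 : (g : P) ∈ E := hlift g fun e he => hgZ e (hEK he)
      have h2 : l⁻¹ * (g : P) * l ∈ E := hlift _ fun e he => by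
        have h3 := hZn.conj_mem _ (hgZ (l * e * l⁻¹) (hE₂K ⟨e, he, rfl⟩)) l⁻¹
        convert h3 using 1
        simp only [commutatorElement_def]; group
      refine mem_center_iff.mpr fun k => Subtype.ext ?_
      have hle : K ≤ centralizer ({(g : P)} : Set P) := hgenK ▸ sup_le
        (fun e he => mem_centralizer_singleton_iff.mpr (hE.ab e he g h1))
        (by
          rintro _ ⟨e, he, rfl⟩
          refine mem_centralizer_singleton_iff.mpr ?_
          simp only [MulEquiv.toMonoidHom_eq_coe, MonoidHom.coe_coe, MulAut.conj_apply]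
          calc l * e * l⁻¹ * (g : P) = l * (e * (l⁻¹ * (g : P) * l)) * l⁻¹ := by group
            _ = l * ((l⁻¹ * (g : P) * l) * e) * l⁻¹ := by rw [hE.ab e he _ h2]
            _ = _ := by group)
      exact mem_centralizer_singleton_iff.mp (hle k.2)
    let ρ : ↥K →* ↥(K.map π) ⧸ center (K.map π) := (QuotientGroup.mk' _).comp πK
    have hρs : Function.Surjective ρ := (QuotientGroup.mk'_surjective _).comp hπKs
    have hρker : ρ.ker = center K := by
      ext g
      rw [MonoidHom.mem_ker]
      show ((πK g : K.map π) : ↥(K.map π) ⧸ center (K.map π)) = 1 ↔ _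
      rw [QuotientGroup.eq_one_iff]
      refine ⟨hcenter g, fun h => mem_center_iff.mpr fun q => ?_⟩
      obtain ⟨k, rfl⟩ := hπKs q
      rw [← map_mul, ← map_mul, mem_center_iff.mp h k]
    have h3 := Group.nilpotencyClass_le_of_ker_le_center ρ hρker.le
    have h4 : Nontrivial (K.map π) := by
      rw [← Finite.one_lt_card_iff_nontrivial, hcardq]
      exact lt_of_lt_of_le (Nat.one_lt_pow hi.ne' hp.out.one_lt) (Nat.le_mul_of_pos_right _ Nat.card_pos)
    have h5 := Group.nilpotencyClass_eq_quotient_center_plus_one (G := K.map π)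
    omega

end Cfsg.Agent.Soft
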